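import Cfsg.Agent.Lib.Recog.FiThree.Transpositions
import Cfsg.Agent.Lib.Recog.FiThree.Cover
import Cfsg.Agent.Lib.Recog.SporBound.Fi22Group

set_option autoImplicit false
set_option maxRecDepth 20000

/-!
The transpositions of Fi23 as points, and the map of a transposition centraliser onto Fi22 (owner: helper15).
-/

namespace CfsgLib.Recog.FiThreeNorm

open Cfsg CfsgLib.Recog.BitPerm CfsgLib.Recog.SporBound CfsgLib.ThreeTrans.CosetIndex
open CfsgLib.Recog.FiThree

local notation "G" => Cfsg.Spor.Fi23

/-- The transposition of a group element. -/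
noncomputable def conjZ (g : G) : G := g * zz * g⁻¹

theorem conjZ_mul (h g : G) : conjZ (h * g) = h * conjZ g * h⁻¹ := by
  unfold conjZ; group

theorem comm_conjZ (g h : G) : Commute (conjZ g) h ↔ act h (pt g) = pt g := by
  rw [← Equiv.Perm.mul_apply, ← map_mul, show act (h * g) 0 = pt (h * g) from rfl, pt_eq_iff, ← centralizer_zz,
    Subgroup.mem_centralizer_iff]
  simp only [Set.mem_singleton_iff, forall_eq]
  constructor
  · intro e
    have e' : g * zz * g⁻¹ * h⁻¹ = h⁻¹ * (g * zz * g⁻¹) := e.inv_right.eq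
    calc zz * ((h * g)⁻¹ * g) = g⁻¹ * (g * zz * g⁻¹ * h⁻¹) * g := by group
      _ = (h * g)⁻¹ * g * zz := by rw [e']; group
  · intro e
    have e1 : g * zz * g⁻¹ * h⁻¹ = h⁻¹ * (g * zz * g⁻¹) := by
      calc g * zz * g⁻¹ * h⁻¹ = g * (zz * ((h * g)⁻¹ * g)) * g⁻¹ := by group
        _ = h⁻¹ * (g * zz * g⁻¹) := by rw [e]; group
    have := (show Commute (conjZ g) h⁻¹ from e1).inv_right
    rwa [inv_inv] at this

theorem conjZ_congr {g g' : G} (h : pt g = pt g') : conjZ g = conjZ g' := by
  have hm := pt_eq_iff.1 h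
  unfold conjZ
  calc g * zz * g⁻¹ = g * (zz * (g⁻¹ * g')) * (g⁻¹ * g')⁻¹ * g⁻¹ := by group
    _ = g * ((g⁻¹ * g') * zz) * (g⁻¹ * g')⁻¹ * g⁻¹ := by rw [zz_comm hm]
    _ = g' * zz * g'⁻¹ := by group

open scoped Classical in
/-- An element moving the base point to a point. -/
noncomputable def rep (c : ℕ) : G := if h : ∃ g, pt g = c then h.choose else 1

theorem pt_rep {c : ℕ} (h : c < 31671) : pt (rep c) = c := by
  rw [rep, dif_pos (exists_pt h)]; exact (exists_pt h).choose_spec

/-- The transposition of a point. -/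
noncomputable def tau (c : ℕ) : G := conjZ (rep c)

theorem tau_pt (g : G) : tau (pt g) = conjZ g := conjZ_congr (pt_rep (pt_lt g))

theorem tau_mem (c : ℕ) : tau c ∈ trans := mem_trans.2 ⟨_, rfl⟩

theorem trans_eq : trans = tau '' {c | c < 31671} := by
  ext d
  constructor
  · intro hd
    obtain ⟨g, rfl⟩ := mem_trans.1 hd
    exact ⟨pt g, pt_lt g, tau_pt g⟩
  · rintro ⟨c, -, rfl⟩; exact tau_mem c

theorem tau_comm_iff {c : ℕ} (hc : c < 31671) (h : G) : Commute (tau c) h ↔ act h c = c := by
  rw [tau, comm_conjZ, pt_rep hc]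

theorem tau_equiv (h : G) {c : ℕ} (hc : c < 31671) : h * tau c * h⁻¹ = tau (act h c) := by
  have e : act h c = pt (h * rep c) := by
    rw [pt, map_mul, Equiv.Perm.mul_apply, show act (rep c) 0 = c from pt_rep hc]
  rw [e, tau_pt, conjZ_mul, tau]

theorem act_lt (h : G) {c : ℕ} (hc : c < 31671) : act h c < 31671 := by
  rw [← pt_rep hc, pt, ← Equiv.Perm.mul_apply, ← map_mul]
  exact pt_lt _

theorem tau_inj {c d : ℕ} (hc : c < 31671) (hd : d < 31671) (e : tau c = tau d) : c = d := by
  have e' : rep c * zz * (rep c)⁻¹ = rep d * zz * (rep d)⁻¹ := e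
  rw [← pt_rep hc, ← pt_rep hd, pt_eq_iff, ← centralizer_zz, Subgroup.mem_centralizer_iff]
  simp only [Set.mem_singleton_iff, forall_eq]
  calc zz * ((rep c)⁻¹ * rep d) = (rep c)⁻¹ * (rep c * zz * (rep c)⁻¹) * rep d := by group
    _ = _ := by rw [e']; group

theorem tau_zero : tau 0 = zz := by
  have h := tau_pt 1
  rw [show pt (1 : G) = 0 by rw [pt, map_one]; rfl] at h
  rw [h, conjZ, one_mul, inv_one, mul_one]

/-- The point of the transposition `g ⬝ gg 0 ⬝ g⁻¹`. -/
theorem tau_word {w : List ℕ} {c : ℕ} (h : mapsOK net w pA c = true) :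
    tau c = word w * gg 0 * (word w)⁻¹ := by
  have e : pt (word w * word ga) = c := by
    rw [pt, map_mul, Equiv.Perm.mul_apply, show act (word ga) 0 = pA from pt_ga, act_maps h]
  rw [← e, tau_pt, conjZ_mul, show conjZ (word ga) = gg 0 from ga_zz]

/-- The points fixed by a word are exactly those in the mask. -/
noncomputable def fixOK (w : List ℕ) (mask : ℕ) : Bool :=
  Nat.beq (Nat.lor (moved w) mask) (2 ^ numPoints - 1) && Nat.beq (Nat.land (moved w) mask) 0

theorem act_fix_iff {w : List ℕ} {mask : ℕ} (h : fixOK w mask = true) {c : ℕ} (hc : c < 31671) :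
    act (word w) c = c ↔ mask.testBit c = true := by
  rw [fixOK, Bool.and_eq_true] at h
  have h1 : (moved w ||| mask).testBit c = true := by
    have e : (moved w ||| mask) = 2 ^ numPoints - 1 := Nat.eq_of_beq_eq_true h.1
    rw [e, Nat.testBit_two_pow_sub_one, numPoints_eq]
    exact decide_eq_true hc
  have h2 : (moved w &&& mask).testBit c = false := by
    have e : (moved w &&& mask) = 0 := Nat.eq_of_beq_eq_true h.2
    rw [e, Nat.zero_testBit]
  rw [Nat.testBit_or, Bool.or_eq_true] at h1
  rw [Nat.testBit_and, Bool.and_eq_false_iff] at h2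
  rw [act_word]
  constructor
  · intro e
    refine h1.resolve_left (Bool.eq_false_iff.1 ?_)
    have key : ∀ k, (Nat.rec 0 (fun r D => Nat.lor D (Nat.xor (runWord net w (plane r 15)) (plane r 15))) k : ℕ).testBit c
        = false := by
      intro k
      induction k with
      | zero => exact Nat.zero_testBit c
      | succ k ihk =>
        show ((Nat.rec 0 _ k : ℕ) ||| (runWord net w (plane k 15) ^^^ plane k 15)).testBit c = false
        rw [Nat.testBit_or, ihk, Bool.false_or, Nat.testBit_xor, testBit_runWord acts.valid, e, Bool.xor_self]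
    exact key 15
  · intro hm
    have hmv : (moved w).testBit c = false := h2.resolve_right (by rw [hm]; simp)
    have hlt : c < 2 ^ 15 := by omega
    have hj : wordPerm net w c < 2 ^ 15 := by
      rw [← act_word]
      have := act_lt (word w) hc
      omega
    refine Nat.eq_of_testBit_eq fun r => ?_
    rcases Nat.lt_or_ge r 15 with hr | hr
    · have := not_moved hmv r hr
      simp only [testBit_runWord acts.valid, testBit_plane, hr, hlt, hj, decide_true, Bool.true_and,
        Bool.and_true] at this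
      exact this
    · rw [Nat.testBit_lt_two_pow (lt_of_lt_of_le hlt (Nat.pow_le_pow_right (by omega) hr)),
        Nat.testBit_lt_two_pow (lt_of_lt_of_le hj (Nat.pow_le_pow_right (by omega) hr))]

/-- One plane of the points moved by a word. -/
noncomputable def planeStep (w : List ℕ) (r D : ℕ) : ℕ :=
  Nat.lor D (Nat.xor (runWord net w (plane r 15)) (plane r 15))

theorem rec_fifteen (f : ℕ → ℕ → ℕ) {a b c : ℕ} (h1 : (Nat.rec 0 f 5 : ℕ) = a)
    (h2 : f 9 (f 8 (f 7 (f 6 (f 5 a)))) = b) (h3 : f 14 (f 13 (f 12 (f 11 (f 10 b)))) = c) :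
    (Nat.rec 0 f 15 : ℕ) = c := by
  subst h1; subst h2; subst h3; rfl

theorem fixOK_of_parts {w : List ℕ} {mask a b c : ℕ} (h1 : (Nat.rec 0 (planeStep w) 5 : ℕ) = a)
    (h2 : planeStep w 9 (planeStep w 8 (planeStep w 7 (planeStep w 6 (planeStep w 5 a)))) = b)
    (h3 : planeStep w 14 (planeStep w 13 (planeStep w 12 (planeStep w 11 (planeStep w 10 b)))) = c)
    (h4 : (Nat.beq (Nat.lor c mask) (2 ^ numPoints - 1) && Nat.beq (Nat.land c mask) 0) = true) :
    fixOK w mask = true := by
  have e : moved w = c := rec_fifteen (planeStep w) h1 h2 h3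
  rw [fixOK, e]
  exact h4

/-- The letters of Fi22. -/
theorem fromFi22_a (x : ℕ) : fromFi22 (Fi22Group.a x) = toQuot x := by
  rw [Fi22Group.a, gen]
  by_cases h : x < Cfsg.Agent.S1687.gens.length
  · rw [List.getElem?_eq_getElem h]
    show fromFi22 (PresentedGroup.of _) = _
    rw [fromFi22, PresentedGroup.toGroup.of]
    exact congrArg toQuot ((show gens22.Nodup by decide).idxOf_getElem x (show x < gens22.length from h))
  · rw [List.getElem?_eq_none (by omega), toQuot, dif_neg]
    · exact map_one _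
    · simp only [hLetters, List.mem_cons, List.not_mem_nil, or_false]
      simp only [Cfsg.Agent.S1687.gens, List.length_cons, List.length_nil] at h
      omega

theorem fromFi22_bijective : Function.Bijective fromFi22 := by
  haveI := FiThree.finite_fi22
  exact (Nat.bijective_iff_surjective_and_card _).2 ⟨fromFi22_surjective,
    le_antisymm (card_quot ▸ card_fi22_le) (Nat.card_le_card_of_surjective _ fromFi22_surjective)⟩

/-- The map onto Fi22. -/
noncomputable def toFi22 : hSub →* Cfsg.Spor.Fi22 :=
  (MulEquiv.ofBijective fromFi22 fromFi22_bijective).symm.toMonoidHom.comp (QuotientGroup.mk' (Subgroup.center hSub))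

theorem toFi22_surjective : Function.Surjective toFi22 := by
  intro y
  obtain ⟨g, hg⟩ := QuotientGroup.mk'_surjective (Subgroup.center hSub) (fromFi22 y)
  refine ⟨g, ?_⟩
  show (MulEquiv.ofBijective fromFi22 fromFi22_bijective).symm (QuotientGroup.mk' _ g) = y
  rw [hg, MulEquiv.symm_apply_eq]
  rfl

theorem toFi22_eq_one {g : hSub} (h : toFi22 g = 1) : g = 1 ∨ g = zH := by
  have h' : QuotientGroup.mk' (Subgroup.center hSub) g = 1 :=
    (MulEquiv.map_eq_one_iff (MulEquiv.ofBijective fromFi22 fromFi22_bijective).symm).1 h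
  exact center_h g ((QuotientGroup.eq_one_iff g).1 h')

theorem toFi22_word {w : List ℕ} (hw : ∀ x ∈ w, x ∈ hLetters) :
    toFi22 ⟨word w, mem_letterSub hw⟩ = (w.map Fi22Group.a).prod := by
  show (MulEquiv.ofBijective fromFi22 fromFi22_bijective).symm (QuotientGroup.mk' _ _) = _
  rw [MulEquiv.symm_apply_eq, MulEquiv.ofBijective_apply, map_list_prod, List.map_map, ← toQuot_word hw]
  congr 1
  exact List.map_congr_left fun x _ => (fromFi22_a x).symm

theorem toFi22_zH : toFi22 zH = 1 := by
  show (MulEquiv.ofBijective fromFi22 fromFi22_bijective).symm (QuotientGroup.mk' _ zH) = 1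
  rw [show QuotientGroup.mk' (Subgroup.center hSub) zH = 1 from (QuotientGroup.eq_one_iff _).2 zH_central, map_one]

end CfsgLib.Recog.FiThreeNorm
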