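import Cfsg.Agent.Lib.Recog.FiThreeNorm.Basic
import Cfsg.Agent.Lib.Recog.FiNorm.Transport

set_option autoImplicit false
set_option maxRecDepth 20000

/-!
Normalisers in Fi23 of the lifts of the elements of Fi22 (owner: helper15).
-/

namespace CfsgLib.Recog.FiThreeNorm

open Cfsg CfsgLib.Recog.BitPerm CfsgLib.Recog.SporBound CfsgLib.ThreeTrans.CosetIndex
open CfsgLib.Recog.FiThree

attribute [local instance] finite_fi23'

local notation "G" => Cfsg.Spor.Fi23

theorem ker_card : Nat.card toFi22.ker = 2 := by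
  classical
  rw [Nat.card_eq_two_iff' (1 : toFi22.ker)]
  refine ⟨⟨zH, toFi22_zH⟩, fun h => zH_ne_one (congrArg Subtype.val h), fun n hne => ?_⟩
  rcases toFi22_eq_one n.2 with h | h
  · exact absurd (Subtype.ext h) hne
  · exact Subtype.ext h

theorem zH_sq : zH * zH = 1 := Subtype.ext zz_sq

/-- Elements of odd order with the same image are equal. -/
theorem lift_unique {y z : hSub} {p : ℕ} (hp : p % 2 = 1) (hy : y ^ p = 1) (hz : z ^ p = 1)
    (h : toFi22 y = toFi22 z) : y = z := by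
  rcases toFi22_eq_one (g := z⁻¹ * y) (by rw [map_mul, map_inv, h, inv_mul_cancel]) with e | e
  · exact (inv_mul_eq_one.1 e).symm
  · exfalso
    have hc : Commute z zH := Subgroup.mem_center_iff.1 zH_central z
    have e' : y = z * zH := by rw [← e, mul_inv_cancel_left]
    rw [e', hc.mul_pow, hz, one_mul, ← Nat.mod_add_div p 2, hp, pow_add, pow_one, pow_mul, pow_two, zH_sq, one_pow,
      mul_one] at hy
    exact zH_ne_one hy

/-- The mask of a list of points. -/
noncomputable def maskOf (L : List ℕ) : ℕ := L.foldr (fun r acc => Nat.lor acc (Nat.shiftLeft 1 r)) 0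

theorem testBit_maskOf (L : List ℕ) (c : ℕ) : (maskOf L).testBit c = true ↔ c ∈ L := by
  induction L with
  | nil => simp [maskOf]
  | cons r L ih =>
    show (maskOf L ||| (1 <<< r : ℕ)).testBit c = true ↔ _
    rw [Nat.testBit_or, Nat.one_shiftLeft, Nat.testBit_two_pow, Bool.or_eq_true, ih, decide_eq_true_eq,
      List.mem_cons, or_comm, eq_comm]

/-- A certificate for Fi22 with its lift to Fi23. -/
structure Lift where
  /-- the certificate below -/
  cert : FiNorm.NCert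
  /-- the lift of the complement -/
  uW : List ℕ
  /-- the fixed points -/
  L : List ℕ

namespace Lift

variable (S : Lift)

/-- The word of the element. -/
def xW : List ℕ := (List.replicate (S.cert.p + 1) S.cert.xWord).flatten

/-- The small checks. -/
noncomputable def smallOK : Bool :=
  Nat.beq (S.cert.p % 2) 1 && (S.cert.xWord.all (hLetters.contains ·) && (S.uW.all (hLetters.contains ·) &&
    ((S.uW == S.cert.wWord || S.uW == S.cert.wWord ++ zW) && (S.L.contains 0 &&
      (S.L.all (fun r => Nat.blt r 31671) && decide S.L.Nodup)))))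

/-- The complement fixes the points and has the order it should have. -/
noncomputable def uOK : Bool :=
  S.L.all (fun r => mapsOK net S.uW r r) && mapsOK net ((List.replicate S.cert.m S.uW).flatten) pJ pJ

/-- The checked conditions. -/
structure OK : Prop where
  base : S.cert.OK
  norm : FiNorm.NCert.F S.cert ⊔ FiNorm.NCert.Sg S.cert =
    Subgroup.normalizer ((FiNorm.NCert.X S.cert : Subgroup Cfsg.Spor.Fi22) : Set Cfsg.Spor.Fi22)
  small : S.smallOK = true
  fix : fixOK S.xW (maskOf S.L) = true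
  uok : S.uOK = true

/-- The element. -/
noncomputable def x : G := word S.xW

/-- The complement. -/
noncomputable def u : G := word S.uW

/-- The subgroup of prime order. -/
noncomputable abbrev X : Subgroup G := Subgroup.zpowers S.x

/-- The Frobenius factor. -/
noncomputable abbrev F : Subgroup G := Subgroup.zpowers S.x ⊔ Subgroup.zpowers S.u

/-- The transpositions centralising the element generate this group. -/
noncomputable abbrev Sg : Subgroup G := Subgroup.closure (tau '' {c | c ∈ S.L})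

variable {S}

theorem OK.facts (h : S.OK) : S.cert.p % 2 = 1 ∧ (∀ x ∈ S.cert.xWord, x ∈ hLetters) ∧ (∀ x ∈ S.uW, x ∈ hLetters) ∧
    (S.uW = S.cert.wWord ∨ S.uW = S.cert.wWord ++ zW) ∧ 0 ∈ S.L ∧ (∀ r ∈ S.L, r < 31671) ∧ S.L.Nodup := by
  have := h.small
  simpa only [smallOK, Bool.and_eq_true, Nat.beq_eq, List.all_eq_true, List.contains_iff_mem, Bool.or_eq_true,
    beq_iff_eq, Nat.blt_eq, decide_eq_true_eq] using this

theorem OK.x_mem (h : S.OK) : S.x ∈ hSub := by
  refine mem_letterSub fun y hy => ?_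
  obtain ⟨l, hl, hy⟩ := List.mem_flatten.1 hy
  rw [List.eq_of_mem_replicate hl] at hy
  exact h.facts.2.1 y hy

theorem OK.u_mem (h : S.OK) : S.u ∈ hSub := mem_letterSub h.facts.2.2.1

/-- The element in the centraliser. -/
noncomputable def OK.xh (h : S.OK) : hSub := ⟨S.x, h.x_mem⟩

/-- The complement in the centraliser. -/
noncomputable def OK.uh (h : S.OK) : hSub := ⟨S.u, h.u_mem⟩

theorem OK.toFi22_x (h : S.OK) : toFi22 h.xh = S.cert.toCert.x := by
  have e : h.xh = (⟨word S.cert.xWord, mem_letterSub h.facts.2.1⟩ : hSub) ^ (S.cert.p + 1) := Subtype.ext (by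
    show word _ = word _ ^ _
    rw [Lift.xW, word, List.map_flatten, List.map_replicate, List.prod_flatten, List.map_replicate,
      List.prod_replicate])
  rw [e, map_pow, toFi22_word h.facts.2.1, pow_succ]
  show S.cert.toCert.x ^ S.cert.p * S.cert.toCert.x = _
  rw [h.base.toOK.pow_eq_one, one_mul]

theorem OK.x_pow (h : S.OK) : h.xh ^ S.cert.p = 1 := by
  set g : hSub := ⟨word S.cert.xWord, mem_letterSub h.facts.2.1⟩
  have e : h.xh = g ^ (S.cert.p + 1) := Subtype.ext (by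
    show word _ = word _ ^ _
    rw [Lift.xW, word, List.map_flatten, List.map_replicate, List.prod_flatten, List.map_replicate,
      List.prod_replicate])
  have h2 : (g ^ S.cert.p) ^ 2 = 1 := by
    rcases toFi22_eq_one (g := g ^ S.cert.p) (by
      rw [map_pow, toFi22_word h.facts.2.1]; exact h.base.toOK.pow_eq_one) with e' | e'
    · rw [e', one_pow]
    · rw [e', pow_two, zH_sq]
  rw [e, ← pow_mul, mul_comm, pow_mul, ← Nat.div_mul_cancel (show 2 ∣ S.cert.p + 1 by have := h.facts.1; omega),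
    mul_comm (_ / 2) 2, pow_mul, h2, one_pow]

theorem OK.orderOf_x (h : S.OK) : orderOf S.x = S.cert.p := by
  haveI := Fact.mk h.base.prime
  refine orderOf_eq_prime (congrArg Subtype.val h.x_pow) fun e => h.base.x_ne ?_
  rw [← h.toFi22_x, show h.xh = 1 from Subtype.ext e, map_one]

theorem OK.card_X (h : S.OK) : Nat.card S.X = S.cert.p := by rw [Nat.card_zpowers, h.orderOf_x]

theorem OK.toFi22_u (h : S.OK) : toFi22 h.uh = S.cert.w := by
  rw [show h.uh = (⟨word S.uW, mem_letterSub h.facts.2.2.1⟩ : hSub) from rfl, toFi22_word h.facts.2.2.1]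
  show _ = (S.cert.wWord.map Fi22Group.a).prod
  rcases h.facts.2.2.2.1 with e | e
  · rw [e]
  · have hz : ∀ x ∈ zW, x ∈ hLetters := by decide +kernel
    have h1 := toFi22_word hz
    rw [show (⟨word zW, mem_letterSub hz⟩ : hSub) = zH from rfl, toFi22_zH] at h1
    rw [e, List.map_append, List.prod_append, ← h1, mul_one]

theorem OK.fixed_iff (h : S.OK) {c : ℕ} (hc : c < 31671) : act S.x c = c ↔ c ∈ S.L :=
  (act_fix_iff h.fix hc).trans (testBit_maskOf _ _)

theorem OK.u_fix (h : S.OK) {c : ℕ} (hc : c ∈ S.L) : act S.u c = c := by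
  have := h.uok
  rw [uOK, Bool.and_eq_true, List.all_eq_true] at this
  exact act_maps (this.1 c hc)

theorem OK.u_pow (h : S.OK) : h.uh ^ S.cert.m = 1 := by
  rcases toFi22_eq_one (g := h.uh ^ S.cert.m) (by rw [map_pow, h.toFi22_u, h.base.w_rel.2.1]) with e | e
  · exact e
  · exfalso
    have hu := h.uok
    rw [uOK, Bool.and_eq_true] at hu
    have e1 := act_maps hu.2
    rw [show word (List.replicate S.cert.m S.uW).flatten = ((h.uh ^ S.cert.m : hSub) : G) from by
      rw [word, List.map_flatten, List.map_replicate, List.prod_flatten, List.map_replicate, List.prod_replicate]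
      rfl, e] at e1
    rw [show ((zH : hSub) : G) = word zW from rfl, act_maps z_maps] at e1
    exact absurd e1 (by decide)

theorem OK.u_rel (h : S.OK) : h.uh * h.xh * h.uh⁻¹ = h.xh ^ S.cert.g := by
  refine lift_unique h.facts.1 (by rw [conj_pow, h.x_pow, mul_one, mul_inv_cancel])
    (by rw [← pow_mul, mul_comm, pow_mul, h.x_pow, one_pow]) ?_
  rw [map_mul, map_mul, map_inv, map_pow, h.toFi22_u, h.toFi22_x, mul_inv_eq_iff_eq_mul]
  exact h.base.w_rel.1

theorem OK.u_normalizes (h : S.OK) : S.u ∈ Subgroup.normalizer ((S.X : Subgroup G) : Set G) :=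
  FiNorm.NCert.mem_normalizer_zpowers
    ⟨(S.cert.g : ℤ), (zpow_natCast S.x S.cert.g).trans (congrArg Subtype.val h.u_rel).symm⟩

theorem OK.transpositions_eq (h : S.OK) :
    trans ∩ (Subgroup.centralizer ((S.X : Subgroup G) : Set G) : Set G) = tau '' {c | c ∈ S.L} := by
  ext z
  constructor
  · rintro ⟨hz, hc⟩
    rw [trans_eq] at hz
    obtain ⟨c, hc', rfl⟩ := hz
    have := Subgroup.mem_centralizer_iff.1 hc S.x (Subgroup.mem_zpowers _)
    exact ⟨c, (h.fixed_iff hc').1 ((tau_comm_iff hc' _).1 this.symm), rfl⟩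
  · rintro ⟨c, hc, rfl⟩
    refine ⟨tau_mem c, Subgroup.mem_centralizer_iff.2 ?_⟩
    rintro _ ⟨k, rfl⟩
    have hcl := h.facts.2.2.2.2.2.1 c hc
    exact (((tau_comm_iff hcl _).2 ((h.fixed_iff hcl).2 hc)).zpow_right k).eq.symm

theorem OK.F_le_centralizer (h : S.OK) : S.F ≤ Subgroup.centralizer (tau '' {c | c ∈ S.L}) := by
  refine sup_le ((Subgroup.zpowers_le).2 ?_) ((Subgroup.zpowers_le).2 ?_) <;>
    refine Subgroup.mem_centralizer_iff.2 ?_ <;> rintro _ ⟨c, hc, rfl⟩ <;>
    have hcl := h.facts.2.2.2.2.2.1 c hc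
  · exact ((tau_comm_iff hcl _).2 ((h.fixed_iff hcl).2 hc)).eq
  · exact ((tau_comm_iff hcl _).2 (h.u_fix hc)).eq

theorem OK.comm_F_Sg (h : S.OK) {v w : G} (hv : v ∈ S.F) (hw : w ∈ S.Sg) : v * w = w * v := by
  have hle : S.Sg ≤ Subgroup.centralizer (S.F : Set G) := by
    rw [Subgroup.closure_le]
    intro z hz
    exact Subgroup.mem_centralizer_iff.2 fun y hy =>
      ((Subgroup.mem_centralizer_iff.1 (h.F_le_centralizer hy)) z hz).symm
  exact Subgroup.mem_centralizer_iff.1 (hle hw) v hv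

theorem OK.F_le_hSub (h : S.OK) : S.F ≤ hSub :=
  sup_le ((Subgroup.zpowers_le).2 h.x_mem) ((Subgroup.zpowers_le).2 h.u_mem)

/-- The factor inside the centraliser. -/
noncomputable abbrev OK.Fh (h : S.OK) : Subgroup hSub := Subgroup.zpowers h.xh ⊔ Subgroup.zpowers h.uh

theorem OK.map_Fh (h : S.OK) : h.Fh.map hSub.subtype = S.F := by
  rw [Subgroup.map_sup, MonoidHom.map_zpowers, MonoidHom.map_zpowers]
  rfl

theorem OK.image_Fh (h : S.OK) : h.Fh.map toFi22 = FiNorm.NCert.F S.cert := by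
  rw [Subgroup.map_sup, MonoidHom.map_zpowers, MonoidHom.map_zpowers, h.toFi22_x, h.toFi22_u]

theorem OK.Fh_inj (h : S.OK) {y : hSub} (hy : y ∈ h.Fh) (h1 : toFi22 y = 1) : y = 1 := by
  classical
  have hn : Subgroup.zpowers h.uh ≤ Subgroup.normalizer ((Subgroup.zpowers h.xh : Subgroup hSub) : Set hSub) :=
    (Subgroup.zpowers_le).2 (FiNorm.NCert.mem_normalizer_zpowers ⟨(S.cert.g : ℤ), by simpa using h.u_rel.symm⟩)
  rw [OK.Fh, ← SetLike.mem_coe, Subgroup.coe_mul_of_right_le_normalizer_left _ _ hn] at hy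
  obtain ⟨v, hv, w, hw, rfl⟩ := hy
  obtain ⟨k, -, rfl⟩ := Finset.mem_image.1 (mem_zpowers_iff_mem_range_orderOf.1 hv)
  obtain ⟨i, hi, rfl⟩ := Finset.mem_image.1 (mem_zpowers_iff_mem_range_orderOf.1 hw)
  rw [Finset.mem_range] at hi
  have him : i < S.cert.m := by
    refine lt_of_lt_of_le hi (orderOf_le_of_pow_eq_one ?_ h.u_pow)
    have := h.base.mult
    rw [FiNorm.NCert.multOK, Bool.and_eq_true, Nat.blt_eq] at this
    omega
  show h.xh ^ k * h.uh ^ i = 1
  change toFi22 (h.xh ^ k * h.uh ^ i) = 1 at h1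
  rw [map_mul, map_pow, map_pow, h.toFi22_x, h.toFi22_u, mul_eq_one_iff_inv_eq] at h1
  have hc : Commute (S.cert.w ^ i) (S.cert.toCert.x ^ 1) := by
    rw [← h1, pow_one]
    exact ((Commute.refl S.cert.toCert.x).pow_left k).inv_left
  obtain rfl := h.base.w_pow_comm him (fun hd => h.base.prime.one_lt.ne' (Nat.dvd_one.1 hd)) hc
  rw [pow_zero, inv_eq_one, ← orderOf_dvd_iff_pow_eq_one, h.base.orderOf_x] at h1
  rw [pow_zero, mul_one, ← Nat.mul_div_cancel' h1, pow_mul, h.x_pow, one_pow]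

theorem OK.card_F (h : S.OK) : Nat.card S.F = S.cert.p * S.cert.m := by
  rw [← h.map_Fh, Subgroup.card_map_of_injective hSub.subtype_injective, ← h.base.card_F, ← h.image_Fh]
  refine Nat.card_congr (Equiv.ofBijective (fun y : h.Fh => (⟨toFi22 y.1, ⟨y.1, y.2, rfl⟩⟩ : h.Fh.map toFi22))
    ⟨fun y z e => ?_, ?_⟩)
  · refine Subtype.ext (inv_mul_eq_one.1 (h.Fh_inj (mul_mem (inv_mem z.2) y.2) ?_)).symm
    rw [map_mul, map_inv, show toFi22 y.1 = toFi22 z.1 from congrArg Subtype.val e, inv_mul_cancel]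
  · rintro ⟨_, y, hy, rfl⟩
    exact ⟨⟨y, hy⟩, rfl⟩

theorem OK.F_inf_centralizer (h : S.OK) :
    S.F ⊓ Subgroup.centralizer ((S.X : Subgroup G) : Set G) = S.X := by
  refine le_antisymm ?_ (le_inf le_sup_left ((Subgroup.zpowers_le).2 (Subgroup.mem_centralizer_iff.2 ?_)))
  · rintro v ⟨hv, hc⟩
    rw [← h.map_Fh] at hv
    obtain ⟨y, hy, rfl⟩ := hv
    have hcy : toFi22 y ∈ FiNorm.NCert.F S.cert ⊓
        Subgroup.centralizer ((FiNorm.NCert.X S.cert : Subgroup Cfsg.Spor.Fi22) : Set Cfsg.Spor.Fi22) := by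
      refine Subgroup.mem_inf.2 ⟨h.image_Fh ▸ ⟨y, hy, rfl⟩, Subgroup.mem_centralizer_iff.2 ?_⟩
      rintro _ ⟨k, rfl⟩
      have e : h.xh * y = y * h.xh := Subtype.ext (Subgroup.mem_centralizer_iff.1 hc S.x (Subgroup.mem_zpowers _))
      show S.cert.toCert.x ^ k * toFi22 y = toFi22 y * S.cert.toCert.x ^ k
      rw [← h.toFi22_x, ← map_zpow, ← map_mul, ← map_mul, (show Commute h.xh y from e).zpow_left k]
    rw [h.base.F_inf_centralizer] at hcy
    obtain ⟨k, hk⟩ := hcy
    have : y = h.xh ^ k := by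
      refine (inv_mul_eq_one.1 (h.Fh_inj (mul_mem (inv_mem (zpow_mem (Subgroup.mem_sup_left
        (Subgroup.mem_zpowers _)) k)) hy) ?_)).symm
      change S.cert.toCert.x ^ k = toFi22 y at hk
      rw [map_mul, map_inv, map_zpow, h.toFi22_x, hk, inv_mul_cancel]
    exact ⟨k, (congrArg Subtype.val this).symm⟩
  · rintro _ ⟨k, rfl⟩
    exact ((Commute.refl S.x).zpow_left k).eq

theorem OK.F_inf_Sg (h : S.OK) : S.F ⊓ S.Sg = ⊥ := by
  classical
  rw [Subgroup.eq_bot_iff_forall]
  intro v hv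
  obtain ⟨hvF, hvS⟩ := Subgroup.mem_inf.1 hv
  have hX : v ∈ S.X := by
    rw [← h.F_inf_centralizer]
    refine ⟨hvF, Subgroup.mem_centralizer_iff.2 ?_⟩
    intro y hy
    exact h.comm_F_Sg (Subgroup.mem_sup_left hy) hvS
  obtain ⟨k, hk, rfl⟩ := Finset.mem_image.1 (mem_zpowers_iff_mem_range_orderOf.1 hX)
  have e : h.uh * h.xh ^ k = h.xh ^ k * h.uh :=
    Subtype.ext (h.comm_F_Sg (Subgroup.mem_sup_right (Subgroup.mem_zpowers _)) hvS)
  have e' := congrArg toFi22 e
  simp only [map_mul, map_pow, h.toFi22_x, h.toFi22_u] at e'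
  by_cases hd : S.cert.p ∣ k
  · rw [← Nat.mul_div_cancel' hd, pow_mul, show S.x ^ S.cert.p = 1 from congrArg Subtype.val h.x_pow, one_pow]
  · have hm := h.base.mult
    rw [FiNorm.NCert.multOK, Bool.and_eq_true, Nat.blt_eq] at hm
    exact absurd (h.base.w_pow_comm hm.1 hd (by rw [pow_one]; exact e')) (by omega)

theorem OK.F_le_normalizer (h : S.OK) : S.F ≤ Subgroup.normalizer ((S.X : Subgroup G) : Set G) :=
  sup_le S.X.le_normalizer ((Subgroup.zpowers_le).2 h.u_normalizes)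

theorem OK.Sg_le_normalizer (h : S.OK) : S.Sg ≤ Subgroup.normalizer ((S.X : Subgroup G) : Set G) := by
  refine le_trans ?_ (Subgroup.centralizer_le_normalizer _)
  rw [Lift.Sg, Subgroup.closure_le, ← h.transpositions_eq]
  exact Set.inter_subset_right

theorem OK.card_mul_le (h : S.OK) {K : Subgroup G} (hF : S.F ≤ K) (hS : S.Sg ≤ K) :
    Nat.card S.F * Nat.card S.Sg ≤ Nat.card K := by
  rw [← Nat.card_prod]
  refine Nat.card_le_card_of_injective (fun q : S.F × S.Sg => (⟨q.1.1 * q.2.1, mul_mem (hF q.1.2) (hS q.2.2)⟩ : K))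
    fun q r e => ?_
  have e' : q.1.1 * q.2.1 = r.1.1 * r.2.1 := congrArg Subtype.val e
  have hm : (r.1.1)⁻¹ * q.1.1 ∈ S.F ⊓ S.Sg := by
    refine Subgroup.mem_inf.2 ⟨mul_mem (inv_mem r.1.2) q.1.2, ?_⟩
    rw [show (r.1.1)⁻¹ * q.1.1 = r.2.1 * (q.2.1)⁻¹ by rw [eq_mul_inv_iff_mul_eq, mul_assoc, e', inv_mul_cancel_left]]
    exact mul_mem r.2.2 (inv_mem q.2.2)
  rw [h.F_inf_Sg, Subgroup.mem_bot, inv_mul_eq_one] at hm
  rw [hm] at e'
  exact Prod.ext (Subtype.ext hm.symm) (Subtype.ext (mul_left_cancel e'))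

theorem OK.sup_eq (h : S.OK) {K : Subgroup G} (hF : S.F ≤ K) (hS : S.Sg ≤ K)
    (hc : Nat.card K ≤ Nat.card S.F * Nat.card S.Sg) : S.F ⊔ S.Sg = K := by
  refine SetLike.ext' (Set.eq_of_subset_of_ncard_le (sup_le hF hS) ?_)
  rw [← Nat.card_coe_set_eq, ← Nat.card_coe_set_eq]
  exact hc.trans (h.card_mul_le le_sup_left le_sup_right)

/-- The subgroups of this prime order in Fi22 are conjugate. -/
def ConjBelow (S : Lift) : Prop := ∀ B : Subgroup Cfsg.Spor.Fi22, Nat.card B = S.cert.p →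
  ∃ c, (FiNorm.NCert.X S.cert).map (MulAut.conj c).toMonoidHom = B

/-- Subgroups of the order inside the centraliser are conjugate there. -/
theorem OK.conj_in_h (h : S.OK) (hcb : S.ConjBelow) {y : hSub} (hy : y ^ S.cert.p = 1) (hy1 : y ≠ 1) :
    ∃ (c : hSub) (k : ℕ), c * h.xh ^ k * c⁻¹ = y := by
  classical
  haveI := FiThree.finite_fi22
  haveI := Fact.mk h.base.prime
  have h1 : toFi22 y ≠ 1 := fun e => hy1 (lift_unique h.facts.1 hy (one_pow _) (by rw [e, map_one]))
  obtain ⟨c, hc⟩ := hcb (Subgroup.zpowers (toFi22 y))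
    (by rw [Nat.card_zpowers]; exact orderOf_eq_prime (by rw [← map_pow, hy, map_one]) h1)
  have hm : toFi22 y ∈ (FiNorm.NCert.X S.cert).map (MulAut.conj c).toMonoidHom :=
    hc.symm ▸ Subgroup.mem_zpowers _
  obtain ⟨z, hz, hzy⟩ := hm
  obtain ⟨k, -, rfl⟩ := Finset.mem_image.1 (mem_zpowers_iff_mem_range_orderOf.1 hz)
  obtain ⟨c', rfl⟩ := toFi22_surjective c
  refine ⟨c', k, lift_unique h.facts.1 (by rw [conj_pow, ← pow_mul, mul_comm k, pow_mul, h.x_pow, one_pow, mul_one,
    mul_inv_cancel]) hy ?_⟩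
  rw [map_mul, map_mul, map_inv, map_pow, h.toFi22_x]
  exact hzy

theorem OK.transitive (h : S.OK) (hcb : S.ConjBelow) {c : ℕ} (hc : c ∈ S.L) :
    ∃ g ∈ Subgroup.normalizer ((S.X : Subgroup G) : Set G), act g 0 = c := by
  have hcl := h.facts.2.2.2.2.2.1 c hc
  set g := rep c
  have hpt : act g 0 = c := pt_rep hcl
  have hy : g⁻¹ * S.x * g ∈ hSub := by
    rw [mem_h_iff, pt, map_mul, map_mul, Equiv.Perm.mul_apply, Equiv.Perm.mul_apply, hpt, (h.fixed_iff hcl).2 hc,
      map_inv, Equiv.Perm.inv_eq_iff_eq]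
    exact hpt.symm
  have hconj : g⁻¹ * S.x * g = MulAut.conj g⁻¹ S.x := by rw [MulAut.conj_apply, inv_inv]
  obtain ⟨v, k, hvk⟩ := h.conj_in_h hcb (y := ⟨g⁻¹ * S.x * g, hy⟩) (Subtype.ext (by
      show (g⁻¹ * S.x * g) ^ S.cert.p = 1
      rw [hconj, ← map_pow, show S.x ^ S.cert.p = 1 from congrArg Subtype.val h.x_pow, map_one]))
    (fun e => h.base.x_ne (by
      have : S.x = 1 := by
        have e' : g⁻¹ * S.x * g = 1 := congrArg Subtype.val e
        rw [hconj] at e'
        exact (MulEquiv.map_eq_one_iff (MulAut.conj g⁻¹)).1 e'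
      rw [← h.toFi22_x, show h.xh = 1 from Subtype.ext this, map_one]))
  have e' : (v : G) * S.x ^ k * (v : G)⁻¹ = g⁻¹ * S.x * g := congrArg Subtype.val hvk
  refine ⟨g * v, ?_, by rw [map_mul, Equiv.Perm.mul_apply, pt_h v.2, hpt]⟩
  have hn : (g * v)⁻¹ ∈ Subgroup.normalizer ((S.X : Subgroup G) : Set G) := by
    refine FiNorm.NCert.mem_normalizer_zpowers ⟨(k : ℤ), ?_⟩
    show S.x ^ (k : ℤ) = (g * (v : G))⁻¹ * S.x * ((g * (v : G))⁻¹)⁻¹
    rw [zpow_natCast, inv_inv, show (g * (v : G))⁻¹ * S.x * (g * v) = (v : G)⁻¹ * (g⁻¹ * S.x * g) * v by group, ← e']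
    group
  simpa using inv_mem hn

theorem OK.card_stab (h : S.OK) :
    Nat.card ↥(Subgroup.normalizer ((S.X : Subgroup G) : Set G) ⊓ hSub) =
      2 * Nat.card ↥(Subgroup.normalizer ((FiNorm.NCert.X S.cert : Subgroup Cfsg.Spor.Fi22) : Set Cfsg.Spor.Fi22)) := by
  haveI := FiThree.finite_fi22
  set N' := Subgroup.normalizer ((FiNorm.NCert.X S.cert : Subgroup Cfsg.Spor.Fi22) : Set Cfsg.Spor.Fi22)
  have e : (N'.comap toFi22).map hSub.subtype = Subgroup.normalizer ((S.X : Subgroup G) : Set G) ⊓ hSub := by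
    ext v
    constructor
    · rintro ⟨y, hy, rfl⟩
      refine Subgroup.mem_inf.2 ⟨?_, y.2⟩
      obtain ⟨k, -, -, hk⟩ := h.base.exists_exponent (u := toFi22 y) hy
      have e1 : y * h.xh * y⁻¹ = h.xh ^ k := lift_unique h.facts.1
        (by rw [conj_pow, h.x_pow, mul_one, mul_inv_cancel]) (by rw [← pow_mul, mul_comm, pow_mul, h.x_pow, one_pow])
        (by rw [map_mul, map_mul, map_inv, map_pow, h.toFi22_x]; exact hk)
      exact FiNorm.NCert.mem_normalizer_zpowers ⟨(k : ℤ), (zpow_natCast S.x k).trans (congrArg Subtype.val e1).symm⟩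
    · intro hv
      obtain ⟨hv1, hv2⟩ := Subgroup.mem_inf.1 hv
      refine ⟨⟨v, hv2⟩, FiNorm.NCert.mem_normalizer_zpowers ?_, rfl⟩
      obtain ⟨k, hk⟩ := (Subgroup.mem_normalizer_iff.1 hv1 S.x).1 (Subgroup.mem_zpowers _)
      have e1 : (⟨v, hv2⟩ : hSub) * h.xh * (⟨v, hv2⟩ : hSub)⁻¹ = h.xh ^ k := Subtype.ext hk.symm
      refine ⟨k, ?_⟩
      show S.cert.toCert.x ^ k = toFi22 ⟨v, hv2⟩ * S.cert.toCert.x * (toFi22 ⟨v, hv2⟩)⁻¹
      rw [← h.toFi22_x, ← map_zpow, ← map_inv, ← map_mul, ← map_mul, e1]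
  rw [← e, Subgroup.card_map_of_injective hSub.subtype_injective]
  have h1 := Subgroup.card_mul_index (N'.comap toFi22)
  have h2 := Subgroup.card_mul_index N'
  have h3 := Subgroup.card_mul_index toFi22.ker
  have h4 : Nat.card (hSub ⧸ toFi22.ker) = Nat.card Cfsg.Spor.Fi22 :=
    Nat.card_congr (QuotientGroup.quotientKerEquivOfSurjective toFi22 toFi22_surjective).toEquiv
  rw [Subgroup.index_comap_of_surjective _ toFi22_surjective] at h1
  rw [ker_card, Subgroup.index_eq_card, h4, ← h2] at h3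
  rw [← h3] at h1
  have hpos : 0 < N'.index := by
    haveI := FiThree.finite_fi22
    exact Nat.pos_of_ne_zero Subgroup.index_ne_zero_of_finite
  exact Nat.eq_of_mul_eq_mul_right hpos (h1.trans (mul_assoc _ _ _).symm)

theorem OK.card_normalizer (h : S.OK) (hcb : S.ConjBelow) :
    Nat.card ↥(Subgroup.normalizer ((S.X : Subgroup G) : Set G)) =
      S.L.length * Nat.card ↥(Subgroup.normalizer ((S.X : Subgroup G) : Set G) ⊓ hSub) := by
  classical
  set N := Subgroup.normalizer ((S.X : Subgroup G) : Set G)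
  have hmem : ∀ g ∈ N, act g 0 ∈ S.L := by
    intro g hg
    refine (h.fixed_iff (pt_lt g)).1 ?_
    obtain ⟨k, hk⟩ := (Subgroup.mem_normalizer_iff.1 (inv_mem hg) S.x).1 (Subgroup.mem_zpowers _)
    have hf : act S.x 0 = 0 := pt_h h.x_mem
    change S.x ^ k = g⁻¹ * S.x * g⁻¹⁻¹ at hk
    rw [show act S.x (act g 0) = act (S.x * g) 0 by rw [map_mul]; rfl,
      show S.x * g = g * S.x ^ k by rw [hk]; group, map_mul, Equiv.Perm.mul_apply, pt_h (zpow_mem h.x_mem k)]
  let f : N ⧸ hSub.subgroupOf N → {c // c ∈ S.L} := fun q => Quotient.liftOn' q (fun g => ⟨act g.1 0, hmem g.1 g.2⟩)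
    fun g g' e => Subtype.ext (pt_eq_iff.2 (Subgroup.mem_subgroupOf.1 (QuotientGroup.leftRel_apply.1 e)))
  have hf : Function.Bijective f := by
    constructor
    · intro q q'
      induction q using QuotientGroup.induction_on with
      | _ g =>
        induction q' using QuotientGroup.induction_on with
        | _ g' => intro e; rw [QuotientGroup.eq]; exact pt_eq_iff.1 (congrArg Subtype.val e)
    · rintro ⟨c, hc⟩
      obtain ⟨g, hg, e⟩ := h.transitive hcb hc
      exact ⟨QuotientGroup.mk ⟨g, hg⟩, Subtype.ext e⟩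
  have h1 := Subgroup.card_mul_index (hSub.subgroupOf N)
  rw [Subgroup.index_eq_card, Nat.card_congr (Equiv.ofBijective f hf)] at h1
  rw [← h1, mul_comm]
  congr 1
  · rw [Nat.card_congr ((List.Nodup.getEquiv S.L h.facts.2.2.2.2.2.2).symm), Nat.card_fin]
  · rw [inf_comm N hSub, ← Subgroup.subgroupOf_map_subtype hSub N, Subgroup.card_map_of_injective N.subtype_injective]

/-- Every subgroup of this order in Fi23 is conjugate to the lift. -/
theorem OK.conj_std (h : S.OK) (hcb : S.ConjBelow) (hndvd : ¬ S.cert.p ∣ 31671) {B : Subgroup G}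
    (hB : Nat.card B = S.cert.p) : ∃ g : G, S.X.map (MulAut.conj g).toMonoidHom = B := by
  classical
  haveI := Fact.mk h.base.prime
  obtain ⟨P⟩ : Nonempty (Sylow S.cert.p hSub) := inferInstance
  have hcardP : Nat.card ↥((P : Subgroup hSub).map hSub.subtype) =
      S.cert.p ^ (Nat.card G).factorization S.cert.p := by
    rw [Subgroup.card_map_of_injective hSub.subtype_injective, P.card_eq_multiplicity]
    congr 1
    rw [← Subgroup.card_mul_index hSub, hSub_index, Nat.factorization_mul Nat.card_pos.ne' (by omega),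
      Finsupp.add_apply, Nat.factorization_eq_zero_of_not_dvd hndvd, add_zero]
  let Q : Sylow S.cert.p G := Sylow.ofCard _ hcardP
  obtain ⟨R, hR⟩ := (IsPGroup.of_card (n := 1) (by rw [hB, pow_one]) : IsPGroup S.cert.p B).exists_le_sylow
  obtain ⟨g, hg⟩ := MulAction.exists_smul_eq G Q R
  have hBh : ∀ b ∈ B, g⁻¹ * b * g ∈ hSub := by
    intro b hb
    have hm : b ∈ ((P : Subgroup hSub).map hSub.subtype).map (MulAut.conj g).toMonoidHom := by
      have : ((g • Q : Sylow S.cert.p G) : Subgroup G) = R := by rw [hg]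
      have hbR : b ∈ ((g • Q : Sylow S.cert.p G) : Subgroup G) := by rw [this]; exact hR hb
      exact hbR
    obtain ⟨_, ⟨y, -, rfl⟩, rfl⟩ := hm
    simp [mul_assoc]
  obtain ⟨b, hb, hb1⟩ : ∃ b ∈ B, b ≠ 1 := by
    by_contra hcon
    push Not at hcon
    rw [(Subgroup.eq_bot_iff_forall B).2 hcon, Subgroup.card_bot] at hB
    exact h.base.prime.one_lt.ne hB
  have hbp : b ^ S.cert.p = 1 := by
    rw [← hB]; exact congrArg Subtype.val (pow_card_eq_one' (x := (⟨b, hb⟩ : B)))
  have hconj : g⁻¹ * b * g = MulAut.conj g⁻¹ b := by rw [MulAut.conj_apply, inv_inv]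
  obtain ⟨v, k, hvk⟩ := h.conj_in_h hcb (y := ⟨g⁻¹ * b * g, hBh b hb⟩)
    (Subtype.ext (by show (g⁻¹ * b * g) ^ S.cert.p = 1; rw [hconj, ← map_pow, hbp, map_one]))
    (fun e => hb1 ((MulEquiv.map_eq_one_iff (MulAut.conj g⁻¹)).1 (hconj ▸ congrArg Subtype.val e)))
  have e' : (v : G) * S.x ^ k * (v : G)⁻¹ = g⁻¹ * b * g := congrArg Subtype.val hvk
  refine ⟨g * v, (SetLike.ext' (Set.eq_of_subset_of_ncard_le ?_ ?_)).symm⟩
  · show B ≤ _
    have hBz : Subgroup.zpowers b = B := SetLike.ext' (Set.eq_of_subset_of_ncard_le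
      ((Subgroup.zpowers_le).2 hb) (by
        rw [← Nat.card_coe_set_eq, ← Nat.card_coe_set_eq, SetLike.coe_sort_coe, SetLike.coe_sort_coe, hB,
          Nat.card_zpowers, orderOf_eq_prime hbp hb1]))
    rw [← hBz, Subgroup.zpowers_le]
    refine ⟨S.x ^ k, pow_mem (Subgroup.mem_zpowers _) _, ?_⟩
    show g * (v : G) * S.x ^ k * (g * (v : G))⁻¹ = b
    rw [show g * (v : G) * S.x ^ k * (g * (v : G))⁻¹ = g * ((v : G) * S.x ^ k * (v : G)⁻¹) * g⁻¹ by group, e']
    group
  · rw [← Nat.card_coe_set_eq, ← Nat.card_coe_set_eq, SetLike.coe_sort_coe, SetLike.coe_sort_coe, hB,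
      Subgroup.card_map_of_injective (MulEquiv.injective _), h.card_X]

end Lift

end CfsgLib.Recog.FiThreeNorm
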